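import Cfsg.Agent.M12O.Num
import Cfsg.Agent.Eppo.O7920
import Cfsg.Agent.Perm.IndexN

/-! Simple groups of order 95040: elements of order 11 are self-centralizing (`M12O.bot11`), the degrees prime to 11 are
`1, 16, 16, 45, 54, 120, 144`, with their values at a 2-central involution (`block11`) (helper28). -/
set_option autoImplicit false
set_option linter.unusedSectionVars false
namespace Cfsg.Agent.M12O
open Finset Cfsg.Agent.Small Cfsg.Agent.Char
open scoped ComplexConjugate

variable {G : Type*} [Group G] [Finite G]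

theorem four_aux {ι : Type*} (s : Finset ι) (f : ι → ℤ) (h : ∀ i, f i = 1 ∨ f i = -1) :
    (∏ i ∈ s, f i = 1 ∨ ∏ i ∈ s, f i = -1) ∧ 4 ∣ #s - ∑ i ∈ s, f i - (1 - ∏ i ∈ s, f i) := by
  classical
  induction s using Finset.induction_on with
  | empty => simp
  | insert a s ha ih =>
    rw [prod_insert ha, sum_insert ha, card_insert_of_notMem ha]
    obtain ⟨h1, h2⟩ := ih
    rcases h a with e | e <;> rcases h1 with e' | e' <;> rw [e'] at h2 <;> rw [e, e'] <;> push_cast <;>
      exact ⟨by simp, by omega⟩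

theorem four_dvd (hG : commutator G = ⊤) {χ : G → ℂ} (hχ : IsCharacter G χ) {t : G} (ht : t ^ 2 = 1) {a : ℤ}
    (ha : χ t = a) : 4 ∣ (charDegree χ : ℤ) - a := by
  classical
  have h0 := hχ.apply_one_eq_charDegree
  obtain ⟨n, ρ, rfl⟩ := hχ
  obtain ⟨ζ, h1, h2, h3⟩ := exists_eigenvalues_rep ρ t
  have h4 : LinearMap.det (ρ t) = 1 := congrArg Units.val
    (Abelianization.commutator_subset_ker (LinearMap.det.comp ρ).toHomUnits (hG ▸ Subgroup.mem_top t))
  let f : Fin (Module.finrank ℂ (Fin n → ℂ)) → ℤ := fun i => if ζ i = 1 then 1 else -1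
  have hf : ∀ i, ζ i = f i := fun i => by
    obtain ⟨k, hk⟩ := orderOf_dvd_of_pow_eq_one ht
    have : ζ i ^ 2 = 1 := by rw [hk, pow_mul, h1, one_pow]
    simp only [f]
    split_ifs with h
    · simp [h]
    · simp [(sq_eq_one_iff.1 this).resolve_left h]
  have h5 := (four_aux univ f fun i => by simp only [f]; split_ifs <;> simp).2
  have e0 := h2 0
  have e1 := h2 1
  simp only [zpow_zero, zpow_one, hf, h0, ha, sum_const, nsmul_eq_mul, mul_one] at e0 e1
  simp only [hf, h4] at h3
  rw [show ∏ i, f i = 1 by exact_mod_cast h3.symm, show ∑ i, f i = a by exact_mod_cast e1.symm,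
    ← show charDegree ρ.character = #(univ : Finset (Fin (Module.finrank ℂ (Fin n → ℂ)))) by exact_mod_cast e0] at h5
  simpa using h5

theorem dvd_index_mul (χ : IrrCharacter G) {g : G} {a : ℤ} (ha : χ.1 g = a) :
    (charDegree χ.1 : ℤ) ∣ (Subgroup.centralizer ({g} : Set G)).index * a := by
  have h1 := χ.2.isIntegral_centralChar g
  rw [centralChar, ha, χ.2.apply_one_eq_charDegree] at h1
  exact int_dvd_of_isIntegral_div (by exact_mod_cast χ.2.charDegree_pos.ne') (by exact_mod_cast h1)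

theorem int_of_uniq {χ : IrrCharacter G} (hu : ∀ ψ : IrrCharacter G, charDegree ψ.1 = charDegree χ.1 → ψ = χ) (g : G) :
    ∃ a : ℤ, χ.1 g = a := exists_int_of_fixed (χ.2.isCharacter.isIntegral g) fun σ =>
  congrFun (congrArg Subtype.val (hu ⟨_, IsIrrCharacter.map_ringHom χ.2 σ.toRingHom⟩ (charDegree_eq_of_apply_one (by
    simp [χ.2.apply_one_eq_charDegree])))) g

theorem not_dvd_index {p : ℕ} {y : G} {K : Subgroup G} (hy : DefOne p y K) (u : K) :
    ¬ p ∣ (Subgroup.centralizer ({(u : G)} : Set G)).index := fun e => hy.notdvd (e.trans (Subgroup.index_dvd_of_le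
  (Subgroup.zpowers_le_of_mem (Subgroup.mem_centralizer_singleton_iff.2 (hy.comm u)))))

variable [IsSimpleGroup G] (h : Nat.card G = 95040)
include h

theorem ncyc : ¬ IsCyclic G := not_isCyclic_of_card (by rw [h]; norm_num)

theorem perf : commutator G = ⊤ := commutator_eq_top_of_not_isCyclic (ncyc h)

theorem k5 [Fact (Nat.Prime 5)] : ∃ (y : G) (K : Subgroup G), DefOne 5 y K ∧ (2 ∣ Nat.card K ∨ Nat.card K = 9) := by
  obtain ⟨y, K, hy⟩ := exists_defOne_of_dvd (G := G) (p := 5) (by rw [h]; norm_num) (by rw [h]; norm_num)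
  have := Fintype.ofFinite K
  obtain ⟨X, φ, δ, ε, s⟩ := hy.exists_pshape
  exact ⟨y, K, hy, (five (h ▸ s.pdata (ncyc h))).1⟩

theorem no5 (χ : IrrCharacter G) : charDegree χ.1 ≠ 5 := fun e => by
  have := Fact.mk Nat.prime_five
  obtain ⟨y, K, hy, hk⟩ := k5 h
  obtain ⟨r, hr, h1, h2⟩ : ∃ r : ℕ, r.Prime ∧ r ∣ Nat.card K ∧ ¬ r ∣ 5 :=
    hk.elim (fun c => ⟨2, Nat.prime_two, c, by decide⟩) fun c => ⟨3, Nat.prime_three, c ▸ by decide, by decide⟩
  have := Fact.mk hr
  obtain ⟨u, hu⟩ := exists_prime_orderOf_dvd_card' r h1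
  rw [← Subgroup.orderOf_coe] at hu
  refine h2 (e ▸ dvd_degree_of_apply_eq_zero χ.2.isCharacter hr ⟨1, by rw [hu, pow_one]⟩
    (apply_eq_zero_of_pow (q := 5) (k := 1) (ncyc h) (by rintro rfl; simp at e) e ?_ (not_dvd_index hy u)))
  exact fun c => hr.one_lt.ne (by rw [← hu, c, orderOf_one])

theorem no10 : (degM G).count 10 ≠ 1 := fun e => by
  have := Fact.mk Nat.prime_five
  obtain ⟨χ, e1, u1⟩ := O7920.exists_uniq e
  have h1 : χ ≠ irrOne G := by rintro rfl; simp at e1
  choose a ha using int_of_uniq (χ := χ) fun ψ c => u1 ψ (c.trans e1)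
  obtain ⟨y, K, hy, hk⟩ := k5 h
  have d5 : ∀ u : K, 5 ∣ a u := fun u => by
    have := dvd_index_mul χ (ha u)
    rw [e1] at this
    exact ((Nat.prime_iff_prime_int.1 Nat.prime_five).dvd_or_dvd (Dvd.dvd.trans (by decide) this)).resolve_left fun c =>
      not_dvd_index hy u (by exact_mod_cast c)
  have h6 : χ.1 1 = ((10 : ℤ) : ℂ) := by rw [χ.2.apply_one_eq_charDegree, e1]; norm_num
  have lt : ∀ g, g ≠ 1 → (a g).natAbs < 10 := fun g hg => (e1 ▸ natAbs_le_of_apply χ.2.isCharacter (ha g)).lt_of_ne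
    fun c => hg (eq_one_of_norm (ncyc h) h1 (χ.2.isCharacter.mem_charCenter.2 (by
      rw [ha, h6]
      obtain c | c : a g = 10 ∨ a g = -10 := by omega
      all_goals simp [c])))
  rcases hk with hk | hk
  · have := Fact.mk Nat.prime_two
    obtain ⟨t, ht⟩ := exists_prime_orderOf_dvd_card' 2 hk
    rw [← Subgroup.orderOf_coe] at ht
    have := four_dvd (perf h) χ.2.isCharacter (ht ▸ pow_orderOf_eq_one _) (ha t)
    have := lt t fun c => by simp [c] at ht
    have := d5 t
    omega
  · have := fx_const χ.2.isCharacter (H := K) (a := ((-5 : ℤ) : ℂ)) fun g hg g1 => by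
      obtain ⟨k, -, hk'⟩ := (Nat.dvd_prime_pow Nat.prime_three (m := 2)).1 (hk ▸ K.orderOf_dvd_natCard hg)
      have := dvd_sub_of_mul χ.2.isCharacter Nat.prime_three ⟨k, hk'⟩ (Commute.one_right _) (by rw [mul_one, ha]) h6
      have := lt g g1
      have := d5 ⟨g, hg⟩
      rw [ha, show a g = -5 by simp only at *; omega]
    rw [h6, hk] at this
    have : ((-30 : ℤ) : ℂ) = ((9 * fx χ.1 K : ℕ) : ℤ) := by push_cast at this ⊢; linear_combination this
    have := Int.cast_injective this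
    omega

theorem no33 {H : Subgroup G} (hH : H.index = 12) (g : G) : orderOf g ≠ 33 := fun e => by
  obtain ⟨φ, a, h1, -⟩ := Perm.exists_hom_of_index (Ω := Fin 12) H (by omega) (by simp [hH])
  have inj : Function.Injective φ := (MonoidHom.ker_eq_bot_iff _).1 (h1 ▸
    (Subgroup.normalCore_normal H).eq_bot_or_eq_top.resolve_right fun c => by
      rw [top_unique (c ▸ H.normalCore_le : ⊤ ≤ H), Subgroup.index_top] at hH; omega)
  rw [← orderOf_injective φ inj, ← Equiv.Perm.lcm_cycleType] at e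
  have h2 := (φ g).sum_cycleType_le
  have h3 := fun n => Equiv.Perm.two_le_of_mem_cycleType (σ := φ g) (n := n)
  rw [Fintype.card_fin] at h2
  generalize (φ g).cycleType = C at *
  have h4 : ∀ n ∈ C, n = 3 ∨ n = 11 := fun n hn => by
    have h5 : n ∣ 33 := e ▸ Multiset.dvd_lcm hn
    have := (Multiset.single_le_sum (fun _ _ => Nat.zero_le _) n hn).trans h2
    have := h3 n hn
    interval_cases n <;> omega
  have h5 : 3 ∈ C := by_contra fun c => absurd (e ▸ Multiset.lcm_dvd.2 fun n hn => by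
    rw [(h4 n hn).resolve_left (by rintro rfl; exact c hn)] : 33 ∣ 11) (by decide)
  have h6 : 11 ∈ C.erase 3 := (Multiset.mem_erase_of_ne (by decide)).2 (by_contra fun c => absurd
    (e ▸ Multiset.lcm_dvd.2 fun n hn => by rw [(h4 n hn).resolve_right (by rintro rfl; exact c hn)] : 33 ∣ 3) (by decide))
  rw [← Multiset.cons_erase h5, ← Multiset.cons_erase h6, Multiset.sum_cons, Multiset.sum_cons] at h2
  omega

theorem not_six [Fact (Nat.Prime 11)] {x : G} {K : Subgroup G} (hx : DefOne 11 x K) (e : Nat.card E[hx] = 10) :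
    Nat.card K ≠ 6 := fun k => by
  have := Fact.mk Nat.prime_three
  obtain ⟨u, hu⟩ := exists_prime_orderOf_dvd_card' (G := K) 3 (by rw [k]; decide)
  have hu' : orderOf (u : G) = 3 := by rw [Subgroup.orderOf_coe, hu]
  have i2 : (Subgroup.zpowers u).index = 2 := by
    have := (Subgroup.zpowers u).card_mul_index
    rw [Nat.card_zpowers, hu, k] at this
    omega
  have le : Nx x ≤ Nx (u : G) := fun n hn => mem_Nx_of_conj_xp hu' one_ne_zero (by
    have h1 := Subgroup.pow_mem _ (Subgroup.sq_mem_of_index_two i2 (hx.actK ⟨n, hn⟩ u)) 2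
    rw [← pow_mul, show 2 * 2 = 3 + 1 from rfl, pow_succ, ← map_pow, ← hu, pow_orderOf_eq_one, map_one, one_mul] at h1
    obtain ⟨j, hj⟩ := h1
    exact ⟨j, by rw [xp_one hu']; simpa using congrArg Subtype.val hj⟩)
  have c1 := hx.card_Nx
  rw [e, k] at c1
  have c2 := Sylow.prime_pow_dvd_card_normalizer (p := 3) (n := 1) (H := Subgroup.zpowers (u : G))
    (by rw [h]; decide) (by rw [Nat.card_zpowers, hu', pow_one])
  have hP : (hx.sylow : Subgroup G) ≤ Nx (u : G) := Subgroup.le_normalizer.trans le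
  have c3 := card_sylow_modEq_one 11 (Nx (u : G))
  rw [(hx.sylow.subtype hP).card_eq_index_normalizer, ← Sylow.coe_coe, Sylow.coe_subtype, ← Subgroup.subgroupOf_normalizer_eq hP] at c3
  change (Nx x).relIndex _ ≡ 1 [MOD 11] at c3
  have c4 := Subgroup.relIndex_mul_index le
  have c5 := (Nx x).card_mul_index
  have c6 := (Nx (u : G)).card_mul_index
  have c7 : (Nx (u : G)).index ≠ 1 := fun c => by
    rcases (Subgroup.normalizer_eq_top_iff.1 (Subgroup.index_eq_one.1 c)).eq_bot_or_eq_top with c | c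
    · simp [Subgroup.zpowers_eq_bot.1 c] at hu'
    · have := Nat.card_zpowers (u : G)
      rw [c, Subgroup.card_top, h] at this
      omega
  rw [c1, h] at c5
  rw [show (Nx x).index = 144 by omega] at c4
  have c8 : ∀ m ∈ Nat.divisors 144, m ≡ 1 [MOD 11] → m = 1 ∨ m = 12 ∨ m = 144 := by decide +kernel
  rw [h] at c6
  refine no33 h (H := Nx (u : G)) ?_ (x * u) ?_
  · rcases c8 _ (Nat.mem_divisors.2 ⟨Dvd.intro _ c4, by decide⟩) c3 with c | c | c <;> rw [c] at c4
    · rw [show (Nx (u : G)).index = 144 by omega] at c6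
      change 3 ^ 2 ∣ Nat.card (Nx (u : G)) at c2
      omega
    all_goals omega
  · rw [Commute.orderOf_mul_eq_mul_orderOf_of_coprime (hx.comm u) (by rw [hx.ord, hu']; decide), hx.ord, hu']

theorem bot11 [Fact (Nat.Prime 11)] {x : G} {K : Subgroup G} (hx : DefOne 11 x K) : K = ⊥ := by
  have := Fintype.ofFinite K
  obtain ⟨X, φ, δ, ε, s⟩ := hx.exists_pshape
  exact Subgroup.card_eq_one.1 ((eleven (h ▸ s.pdata (ncyc h))).resolve_left fun c => not_six h hx c.1 c.2).2.1

end Cfsg.Agent.M12O
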