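import Cfsg.Agent.Small.Fx
import Cfsg.Agent.Char.FS
import Cfsg.Agent.Block.Ev
import Cfsg.Agent.Char.Central

/-! A real irreducible character `χ` of degree `n` occurring once in its symmetric square, with a subgroup `F` fixing
one dimension in `χ` and two in the symmetric square, gives a subgroup of index `n + 1`
(`M12O.exists_index`) (helper28). -/
set_option autoImplicit false
set_option linter.unusedSectionVars false
namespace Cfsg.Agent.M12O
open Finset Cfsg.Agent.Small Cfsg.Agent.Char Cfsg.Agent.Block MonoidAlgebra Module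
open scoped ComplexConjugate

section Mat
variable {ι : Type*} [Fintype ι] [DecidableEq ι] {P : Matrix ι ι ℂ}

theorem idem_zero (h : P * P = P) (h0 : P.trace = 0) : P = 0 := by
  have h1 : IsIdempotentElem (Matrix.toLin' P) := by
    rw [IsIdempotentElem, Module.End.mul_eq_comp, ← Matrix.toLin'_mul, h]
  have := LinearMap.IsIdempotentElem.eq_zero_of_trace_eq_zero h1 (by rw [Matrix.trace_toLin'_eq, h0])
  exact Matrix.toLin'.injective (by rw [this, map_zero])

theorem idem_one (h : P * P = P) (h0 : P.trace = 1) (X : Matrix ι ι ℂ) : P * X * P = (P * X).trace • P := by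
  have h1 : IsIdempotentElem (Matrix.toLin' P) := by
    rw [IsIdempotentElem, Module.End.mul_eq_comp, ← Matrix.toLin'_mul, h]
  have h2 := (LinearMap.IsIdempotentElem.isProj_range _ h1).trace
  rw [Matrix.trace_toLin'_eq, h0, eq_comm, Nat.cast_eq_one, finrank_eq_one_iff'] at h2
  obtain ⟨⟨v, hv⟩, -, h3⟩ := h2
  obtain ⟨c, hc⟩ := h3 ⟨_, X.mulVec v, rfl⟩
  have hc : c • v = P.mulVec (X.mulVec v) := congrArg Subtype.val hc
  have h4 : P * X * P = c • P := Matrix.toLin'.injective (LinearMap.ext fun w => by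
    obtain ⟨a, ha⟩ := h3 ⟨_, w, rfl⟩
    have ha : a • v = P.mulVec w := congrArg Subtype.val ha
    simp only [Matrix.toLin'_apply, ← Matrix.mulVec_mulVec, Matrix.smul_mulVec, ← ha, Matrix.mulVec_smul, ← hc,
      smul_comm a c])
  have h5 := congrArg Matrix.trace h4
  rw [Matrix.trace_mul_comm, ← Matrix.mul_assoc, h, Matrix.trace_smul, h0, smul_eq_mul, mul_one] at h5
  rw [h4, h5]

end Mat

variable {G : Type*} [Group G] [Fintype G]

/-- The average of `F` in the group algebra. -/
noncomputable def av (F : Subgroup G) [Fintype F] : ℂ[G] := (Nat.card F : ℂ)⁻¹ • ∑ h : F, single (h : G) 1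

theorem ev_av (θ : G → ℂ) (F : Subgroup G) [Fintype F] (g : G) : ev θ (av F * single g 1) = avg θ F g := by
  simp [av, sum_mul, single_mul_single, ev_single, avg, finsum_eq_sum_of_fintype]

theorem single_mul_av (F : Subgroup G) [Fintype F] (k : F) : single (k : G) 1 * av F = av F := by
  rw [av, mul_smul_comm, mul_sum]
  congr 1
  exact Fintype.sum_equiv (Equiv.mulLeft k) _ _ fun h => by simp [single_mul_single]

theorem av_mul_single (F : Subgroup G) [Fintype F] (k : F) : av F * single (k : G) 1 = av F := by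
  rw [av, smul_mul_assoc, sum_mul]
  congr 1
  exact Fintype.sum_equiv (Equiv.mulRight k) _ _ fun h => by simp [single_mul_single]

theorem av_mul_av (F : Subgroup G) [Fintype F] : av F * av F = av F := by
  conv_lhs => rw [av, smul_mul_assoc, sum_mul]
  rw [← av]
  simp only [single_mul_av, sum_const, card_univ, ← Nat.card_eq_fintype_card, ← Nat.cast_smul_eq_nsmul ℂ, smul_smul,
    inv_mul_cancel₀ (natCard_cast_ne_zero (G := F)), one_smul]

theorem ev_idem_mul {Λ : G → ℂ} (hΛ : IsClassFunction G Λ) (A : Set (IrrCharacter G)) [DecidablePred (· ∈ A)]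
    (a : ℂ[G]) : ev Λ (idem A * a) = ∑ ψ with ψ ∈ A, classInner Λ ψ.1 * ev ψ.1 a := by
  conv_lhs => rw [hΛ.eq_sum_irr, ev_sum_left]
  rw [sum_filter]
  refine sum_congr rfl fun ψ _ => ?_
  rw [ev_smul_left]
  split_ifs with h
  · rw [ev_idem_mul_of_mem h]
  · rw [ev_idem_mul_of_notMem h, mul_zero]

theorem avg_sq {χ : IrrCharacter G} (h0 : χ ≠ irrOne G) (F : Subgroup G) (h1 : fx χ.1 F = 1)
    (h2 : fx (symSq χ.1) F = 2) (h3 : classInner (symSq χ.1) χ.1 = 1) (h4 : classInner (symSq χ.1) (fun _ => 1) = 1) :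
    ∃ a b : ℂ, ∀ g, avg χ.1 F g ^ 2 = a + b * avg χ.1 F g := by
  classical
  have := Fintype.ofFinite F
  have hS := IsCharacter.symSq χ.2.isCharacter
  obtain ⟨n, R, hR⟩ := IsCharacter.exists_matrix χ.2.isCharacter
  let ρ : ℂ[G] →ₐ[ℂ] Matrix (Fin n) (Fin n) ℂ := MonoidAlgebra.lift ℂ _ G R
  let τ : ℂ[G] →ₐ[ℂ] Matrix (Fin n × Fin n) (Fin n × Fin n) ℂ :=
    MonoidAlgebra.lift ℂ _ G ((sqRep R).comp (MonoidHom.inl _ _))
  let σ := sqRep R (1, -1)
  have ρs : ∀ g, ρ (single g 1) = R g := fun g => by simp [ρ]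
  have τs : ∀ g, τ (single g 1) = sqRep R (g, 1) := fun g => by simp [τ]
  have eρ : ∀ a, (ρ a).trace = ev χ.1 a := fun a => by
    induction a using MonoidAlgebra.induction_on with
    | of g => rw [of_apply, ρs, ev_single, hR, one_mul]
    | add a b ha hb => rw [map_add, Matrix.trace_add, ha, hb, map_add]
    | smul c a ha => rw [map_smul, Matrix.trace_smul, ha, map_smul]
  have cσ : ∀ a, σ * τ a = τ a * σ := fun a => by
    induction a using MonoidAlgebra.induction_on with
    | of g => rw [of_apply, τs, ← map_mul, ← map_mul]; simp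
    | add a b ha hb => rw [map_add, mul_add, add_mul, ha, hb]
    | smul c a ha => rw [map_smul, mul_smul_comm, smul_mul_assoc, ha]
  have σσ : σ * σ = 1 := by rw [← map_mul, ← map_one (sqRep R)]; congr 1; simp
  let Q := (2 : ℂ)⁻¹ • (1 + σ)
  have cQ : ∀ a, Q * τ a = τ a * Q := fun a => by
    simp only [Q, smul_mul_assoc, mul_smul_comm, add_mul, mul_add, cσ, one_mul, mul_one]
  have QQ : Q * Q = Q := by
    simp only [Q, smul_mul_assoc, mul_smul_comm, add_mul, mul_add, σσ, one_mul, mul_one]
    module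
  have eτ : ∀ a, (τ a * Q).trace = ev (symSq χ.1) a := fun a => by
    induction a using MonoidAlgebra.induction_on with
    | of g =>
      rw [of_apply, τs, ev_single, hR, one_mul]
      simp only [Q, mul_smul_comm, mul_add, mul_one, σ, ← map_mul]
      simp [sqRep, Matrix.trace, Fintype.sum_prod_type, sq, Finset.sum_mul_sum, symSq, Matrix.mul_apply,
        sum_add_distrib, ← mul_sum]
      ring
    | add a b ha hb => rw [map_add, add_mul, Matrix.trace_add, ha, hb, map_add]
    | smul c a ha => rw [map_smul, smul_mul_assoc, Matrix.trace_smul, ha, map_smul]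
  let U := ρ (av F)
  have UU : U * U = U := by rw [← map_mul, av_mul_av]
  have eU : ∀ g, (U * R g).trace = avg χ.1 F g := fun g => by rw [← ρs, ← map_mul, eρ, ev_av]
  have tU : U.trace = 1 := by simpa [avg_one χ.2.isCharacter, h1] using eU 1
  let T : Matrix (Fin n × Fin n) (Fin n × Fin n) ℂ := Matrix.of fun a b => U a.1 b.1 * U a.2 b.2
  have eT : ∀ g, (T * τ (single g 1)).trace = avg χ.1 F g ^ 2 := fun g => by
    rw [← eU, τs]
    simp only [T, sqRep, Matrix.trace, Fintype.sum_prod_type, sq, Finset.sum_mul_sum, Matrix.mul_apply,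
      MonoidHom.coe_mk, OneHom.coe_mk, Matrix.diag_apply, Matrix.of_apply, if_true]
    exact sum_congr rfl fun _ _ => sum_congr rfl fun _ _ => sum_congr rfl fun _ _ => sum_congr rfl fun _ _ => by ring
  have rk : ∀ a b c d, U a b * U c d = U a d * U c b := fun a b c d => by
    have := congrFun (congrFun (idem_one UU tU (Matrix.single b c 1)) a) d
    simpa [Matrix.mul_apply, Matrix.single_apply, ite_and, Matrix.trace, mul_comm] using this
  have T1 : ∀ k : F, τ (single (k : G) 1) * T = T ∧ T * τ (single (k : G) 1) = T := fun k => by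
    have e1 : R k * U = U := by rw [← ρs, ← map_mul, single_mul_av]
    have e2 : U * R k = U := by rw [← ρs, ← map_mul, av_mul_single]
    rw [τs]
    constructor <;> ext ⟨a, b⟩ ⟨c, d⟩
    · conv_rhs => rw [show T (a, b) (c, d) = U a c * U b d from rfl, ← e1]
      simp only [T, sqRep, Fintype.sum_prod_type, Finset.sum_mul_sum, Matrix.mul_apply,
        MonoidHom.coe_mk, OneHom.coe_mk, Matrix.of_apply, if_true]
      exact sum_congr rfl fun _ _ => sum_congr rfl fun _ _ => by ring
    · conv_rhs => rw [show T (a, b) (c, d) = U a c * U b d from rfl, ← e2]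
      simp only [T, sqRep, Fintype.sum_prod_type, Finset.sum_mul_sum, Matrix.mul_apply,
        MonoidHom.coe_mk, OneHom.coe_mk, Matrix.of_apply, if_true]
      exact sum_congr rfl fun _ _ => sum_congr rfl fun _ _ => by ring
  have T2 : σ * T = T ∧ T * σ = T := by
    constructor <;> ext ⟨a, b⟩ ⟨c, d⟩ <;>
      simp [σ, T, sqRep, Matrix.mul_apply, Fintype.sum_prod_type, Matrix.one_apply, rk a c b d, mul_comm]
  have c0 := natCard_cast_ne_zero (G := F)
  have T3 : τ (av F) * Q * T = T ∧ T * (τ (av F) * Q) = T := by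
    have q1 : Q * T = T := by simp only [Q, smul_mul_assoc, add_mul, T2.1, one_mul]; module
    have q2 : T * Q = T := by simp only [Q, mul_smul_comm, mul_add, T2.2, mul_one]; module
    rw [mul_assoc, q1, ← cQ, ← mul_assoc, q2]
    simp only [av, map_smul, map_sum, smul_mul_assoc, mul_smul_comm, sum_mul, mul_sum, fun k => (T1 k).1,
      fun k => (T1 k).2, sum_const, card_univ, ← Nat.card_eq_fintype_card, ← Nat.cast_smul_eq_nsmul ℂ, smul_smul,
      inv_mul_cancel₀ c0, one_smul, and_self]
  let P : Set (IrrCharacter G) → _ := fun A => τ (idem A * av F) * Q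
  have PP : ∀ A B g, P A * τ g * P B = τ (idem (A ∩ B) * (av F * g * av F)) * Q := fun A B g => by
    simp only [P]
    rw [mul_assoc _ Q, cQ, ← mul_assoc _ (τ g), mul_assoc _ Q, ← mul_assoc Q, cQ, mul_assoc _ Q, QQ, ← mul_assoc,
      ← map_mul, ← map_mul, ← idem_mul_idem]
    congr 2
    rw [mul_assoc (idem A), mul_assoc (idem A), mul_assoc (idem A), ← mul_assoc _ (idem B),
      ← center_comm (idem_mem_center B), mul_assoc]
  have P2 : ∀ A, P A * P A = P A := fun A => by
    simpa only [av_mul_av, map_one, mul_one, Set.inter_self] using PP A A 1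
  have tP : ∀ A g, (P A * τ (single g 1)).trace = ∑ ψ with ψ ∈ A, classInner (symSq χ.1) ψ.1 * avg ψ.1 F g :=
    fun A g => by
      simp only [P]
      rw [mul_assoc, cQ, ← mul_assoc, ← map_mul, eτ, mul_assoc, ev_idem_mul hS.isClassFunction]
      simp only [ev_av]
  have o1 : ∀ g, avg (irrOne G).1 F g = 1 := fun g => by
    rw [avg, finsum_eq_sum_of_fintype]
    simp
  have t1 : ∀ g, (P {irrOne G} * τ (single g 1)).trace = 1 := fun g => by
    rw [tP]; simp only [Set.mem_singleton_iff, filter_eq', mem_univ, if_true, sum_singleton, o1, mul_one]; exact h4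
  have t2 : ∀ g, (P {χ} * τ (single g 1)).trace = avg χ.1 F g := fun g => by
    rw [tP]; simp only [Set.mem_singleton_iff, filter_eq', mem_univ, if_true, sum_singleton, h3, one_mul]
  have τ1 : τ (single 1 1) = 1 := map_one τ
  have dj : Disjoint {irrOne G} ({χ} : Set (IrrCharacter G)) := Set.disjoint_singleton.2 h0.symm
  have Pu : τ (av F) * Q = P {irrOne G} + P {χ} + P ({irrOne G} ∪ {χ})ᶜ := by
    simp only [P, idem_compl, idem_union dj, ← add_mul, ← map_add]
    simp
  have t11 := t1 1
  have t21 := t2 1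
  rw [τ1, mul_one] at t11 t21
  rw [avg_one χ.2.isCharacter, h1, Nat.cast_one] at t21
  have P0 : P ({irrOne G} ∪ {χ})ᶜ = 0 := idem_zero (P2 _) (by
    have := congrArg Matrix.trace Pu
    rw [eτ, ← mul_one (av F), one_def, ev_av, avg_one hS, h2, Matrix.trace_add, Matrix.trace_add, t11, t21] at this
    push_cast at this
    linear_combination -this)
  rw [Pu, P0, add_zero] at T3
  refine ⟨(T * P {irrOne G}).trace, (T * P {χ}).trace, fun g => ?_⟩
  have e0 : ∀ A B, Disjoint A B → P A * τ (single g 1) * P B = 0 := fun A B h => by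
    rw [PP, h.inter_eq, idem_empty]; simp
  have e1 : (T * τ (single g 1)).trace =
      (T * ((P {irrOne G} + P {χ}) * τ (single g 1) * (P {irrOne G} + P {χ}))).trace := by
    rw [← mul_assoc, ← mul_assoc, T3.2, Matrix.trace_mul_comm _ (_ + _), ← mul_assoc, T3.1]
  rw [← eT, e1]
  simp only [add_mul, mul_add, e0 _ _ dj, e0 _ _ dj.symm, idem_one (P2 _) t11, idem_one (P2 _) t21, t1, t2,
    add_zero, zero_add, Matrix.trace_add, mul_smul_comm, Matrix.trace_smul, smul_eq_mul]
  ring

theorem conv {χ : G → ℂ} (hχ : IsIrrCharacter G χ) (hr : ∀ g, conj (χ g) = χ g) (F : Subgroup G) (k : G) :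
    ∑ g, avg χ F g * avg χ F (g * k) = Nat.card G * avg χ F k / χ 1 := by
  have := Fintype.ofFinite F
  have c0 := natCard_cast_ne_zero (G := F)
  have e : ∀ h h' : F, ∑ g, χ (h * g) * χ (h' * (g * k)) = Nat.card G * χ ((h' * h⁻¹ : F) * k) / χ 1 := fun h h' => by
    have := IsIrrCharacter.sum_conj_mul_apply_mul hχ hχ ((h : G)⁻¹ * k * h')
    rw [if_pos rfl, ← hχ.isCharacter.isClassFunction _ h'] at this
    rw [← Equiv.sum_comp (Equiv.mulRight (h : G)⁻¹)]
    refine Eq.trans (sum_congr rfl fun g _ => ?_) (this.trans (by simp [mul_assoc]))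
    rw [hr, ← hχ.isCharacter.isClassFunction g h, ← hχ.isCharacter.isClassFunction (g * _) h']
    simp [mul_assoc]
  apply mul_left_cancel₀ (mul_ne_zero c0 c0)
  calc _ = ∑ g, (Nat.card F * avg χ F g) * (Nat.card F * avg χ F (g * k)) := by
        rw [mul_sum]; exact sum_congr rfl fun _ _ => by ring
    _ = ∑ h : F, ∑ h' : F, ∑ g, χ (h * g) * χ (h' * (g * k)) := by
        simp only [avg_eq, sum_mul_sum]
        rw [sum_comm]
        exact sum_congr rfl fun _ _ => sum_comm
    _ = ∑ h : F, Nat.card G * (Nat.card F * avg χ F k) / χ 1 := by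
        refine sum_congr rfl fun h _ => ?_
        simp only [e]
        rw [← sum_div, ← mul_sum, avg_eq, ← Equiv.sum_comp (Equiv.mulRight h⁻¹) fun h : F => χ (h * k)]
        rfl
    _ = _ := by rw [sum_const, card_univ, ← Nat.card_eq_fintype_card, nsmul_eq_mul]; ring

theorem real_of_sym {χ : IrrCharacter G} (h4 : classInner (symSq χ.1) (fun _ => 1) = 1) (g : G) :
    conj (χ.1 g) = χ.1 g := by
  obtain ⟨m, hm⟩ := (IsCharacter.altSq χ.2.isCharacter).exists_nat_classInner isCharacter_one
  have h1 := IsIrrCharacter.classInner_mul_self_one χ.2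
  rw [← symSq_add_altSq, classInner_add_left, h4, hm] at h1
  split_ifs at h1 with h
  · exact Complex.conj_eq_iff_im.2 (h g)
  · exact absurd h1 (by exact_mod_cast (by omega : 1 + m ≠ 0))

theorem exists_index {χ : IrrCharacter G} (h0 : χ ≠ irrOne G) (F : Subgroup G) (h1 : fx χ.1 F = 1)
    (h2 : fx (symSq χ.1) F = 2) (h3 : classInner (symSq χ.1) χ.1 = 1) (h4 : classInner (symSq χ.1) (fun _ => 1) = 1) :
    ∃ H : Subgroup G, H.index = charDegree χ.1 + 1 := by
  classical
  have := Fintype.ofFinite F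
  obtain ⟨a, b, e⟩ := avg_sq h0 F h1 h2 h3 h4
  have hr := real_of_sym h4
  have cv := conv χ.2 hr F
  set f := avg χ.1 F with hf
  have f1 : f 1 = 1 := by rw [hf, avg_one χ.2.isCharacter, h1, Nat.cast_one]
  have s0 : ∀ k, ∑ g, f (g * k) = 0 := fun k => by
    simp only [hf, avg, finsum_eq_sum_of_fintype, ← mul_sum]
    rw [sum_comm, sum_eq_zero, mul_zero]
    intro h _
    rw [← χ.2.sum_eq_zero fun c => h0 (Subtype.ext c), ← Equiv.sum_comp ((Equiv.mulRight k).trans (Equiv.mulLeft (h : G))) χ.1]
    rfl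
  rw [χ.2.isCharacter.apply_one_eq_charDegree] at cv
  have hn := χ.2.charDegree_pos
  generalize charDegree χ.1 = n at cv hn ⊢
  have n0 : (n : ℂ) ≠ 0 := by exact_mod_cast hn.ne'
  have n1 : (n : ℂ) + 1 ≠ 0 := by exact_mod_cast n.succ_ne_zero
  have N0 := natCard_cast_ne_zero (G := G)
  have s1 := s0 1
  have c1 := cv 1
  simp only [mul_one] at s1 c1
  simp only [← sq, e, sum_add_distrib, ← mul_sum, s1, f1, sum_const, card_univ, ← Nat.card_eq_fintype_card,
    nsmul_eq_mul] at c1
  have ha : n * a = 1 := mul_left_cancel₀ N0 (by field_simp at c1; linear_combination c1)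
  have hb := e 1
  rw [f1] at hb
  let s : G → ℕ := fun g => if f g = 1 then 1 else 0
  have hs : ∀ g, (n + 1 : ℂ) * s g = n * f g + 1 := fun g => by
    simp only [s]
    split_ifs with h
    · simp [h]
    · have : (f g - 1) * (n * f g + 1) = 0 := by linear_combination n * e g - n * f g * hb + (1 - f g) * ha
      rw [(mul_eq_zero.1 this).resolve_left (sub_ne_zero.2 h)]; simp
  have k1 : ∀ k, (n + 1) * ∑ g, s g * s (g * k) = Nat.card G * s k := fun k => by
    have : ((n + 1 : ℂ) * ((n + 1) * ∑ g, s g * s (g * k))) = (n + 1) * (Nat.card G * s k) := by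
      calc _ = ∑ g, ((n + 1 : ℂ) * s g) * ((n + 1) * s (g * k)) := by
            push_cast; rw [mul_sum, mul_sum]; exact sum_congr rfl fun _ _ => by ring
        _ = n * n * ∑ g, f g * f (g * k) + n * ∑ g, f g + n * ∑ g, f (g * k) + ∑ g : G, 1 := by
            simp only [hs, mul_sum, ← sum_add_distrib]; exact sum_congr rfl fun _ _ => by ring
        _ = _ := by
            rw [cv, s1, s0, mul_left_comm, hs, sum_const, card_univ, ← Nat.card_eq_fintype_card]; field_simp; simp; ring
    exact_mod_cast mul_left_cancel₀ n1 this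
  have cl : ∀ u v, f u = 1 → f v = 1 → f (u⁻¹ * v) = 1 := fun u v hu hv => by
    by_contra h
    have := k1 (u⁻¹ * v)
    simp only [s, if_neg h, mul_zero, mul_eq_zero, sum_eq_zero_iff] at this
    simpa [hu, hv] using this.resolve_left (by omega) u (mem_univ _)
  let H : Subgroup G :=
    { carrier := {g | f g = 1}
      one_mem' := f1
      inv_mem' := fun {u} hu => by simpa using cl u 1 hu f1
      mul_mem' := fun {u v} hu hv => by simpa using cl u⁻¹ v (by simpa using cl u 1 hu f1) hv }
  refine ⟨H, Nat.eq_of_mul_eq_mul_right (Nat.card_pos (α := H)) ?_⟩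
  have := k1 1
  simp only [s, f1, if_true, mul_one, ite_mul, one_mul, zero_mul, ← ite_and, and_self, sum_boole] at this
  rw [Subgroup.index_mul_card, ← this, Nat.card_eq_fintype_card, Fintype.card_subtype]
  rfl

end Cfsg.Agent.M12O
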