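import Cfsg.Agent.Small.Sweep

/-! Numerical searches for simple groups of order 95040: the principal blocks for 11 and 5 (`M12O.eleven`, `five`),
values at a 2-central involution (`zeq`), the second 5-block (`second`, `joint`) (helper28). -/
set_option autoImplicit false
namespace Cfsg.Agent.M12O
open Cfsg.Agent.Small

def L11 : List (ℤ × List ℤ) := [(-6, [12, -32, -32, 45]), (27, [-32, -32, 45, 45]), (-72, [-32, -32, 45, -54]),
  (27, [-32, -32, -54, 144]), (-160, [-32, 45, -54, -120]), (16, [45, -54, -120, 144])]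

theorem eleven {n e k : ℕ} {M : Multiset ℤ} {d : ℤ} (h : PData 95040 11 n e k M d) :
    e = 10 ∧ k = 6 ∨ e = 5 ∧ k = 1 ∧ (d.natAbs = 5 ∨ (d.natAbs ≠ 10 ∧ (M.map Int.natAbs).count 10 = 1) ∨
      ∃ u ∈ L11, d = u.1 ∧ M = ↑u.2) := by
  by_contra hc
  have := h.ex (R := 310) (f := fun _ e k l => !decide (e = 10 ∧ k = 6 ∨ e = 5 ∧ k = 1 ∧
    ((l.headD 0).natAbs = 5 ∨ ((l.headD 0).natAbs ≠ 10 ∧ (l.tail.map Int.natAbs).count 10 = 1) ∨
      ∃ u ∈ L11, l.headD 0 = u.1 ∧ l.tail.Perm u.2)))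
    (by omega) (by omega) fun l hl => by
      subst hl
      simpa only [Bool.not_eq_eq_eq_not, Bool.not_true, decide_eq_false_iff_not, List.headD_cons,
        List.tail_cons, Multiset.map_coe, ← Multiset.coe_eq_coe, Multiset.coe_count] using hc
  revert this
  decide +kernel

def L5 : List (List ℤ) := [[11, 16, 16, -44], [11, -44, -144, 176], [11, 66, 66, -144], [16, 16, 66, -99],
  [66, -99, -144, 176]]

theorem five {n e k : ℕ} {M : Multiset ℤ} {d : ℤ} (h : PData 95040 5 n e k M d) :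
    (2 ∣ k ∨ k = 9) ∧ ((∃ z ∈ d ::ₘ M, z.natAbs ∈ [12, 24, 36, 96]) ∨
      e = 4 ∧ (k = 12 ∨ k = 2) ∧ ∃ u ∈ L5, -d ::ₘ M = ↑u) := by
  by_contra hc
  have := h.ex (R := 310) (f := fun _ e k l => !decide ((2 ∣ k ∨ k = 9) ∧ ((∃ z ∈ l, z.natAbs ∈ [12, 24, 36, 96]) ∨
      e = 4 ∧ (k = 12 ∨ k = 2) ∧ ∃ u ∈ L5, (-l.headD 0 :: l.tail).Perm u)))
    (by omega) (by omega) fun l hl => by
      subst hl
      simpa only [Bool.not_eq_eq_eq_not, Bool.not_true, decide_eq_false_iff_not, List.headD_cons,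
        List.tail_cons, Multiset.cons_coe, Multiset.mem_coe, ← Multiset.coe_eq_coe] using hc
  revert this
  decide +kernel

/-- All ways of attaching a candidate value to each entry. -/
def sec (cand : ℤ → List ℤ) (ms : List ℤ) : List (List (ℤ × ℤ)) := (ms.map fun m => (cand m).map (m, ·)).sections

theorem exT {α : Type*} {f g : α → ℤ} {cand : ℤ → List ℤ} (ms : List ℤ) : ∀ {s : Multiset α}, s.map f = ↑ms →
    (∀ a ∈ s, g a ∈ cand (f a)) → ∃ T ∈ sec cand ms, s.map (fun a => (f a, g a)) = ↑T := by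
  induction ms with
  | nil => intro s h _; exact ⟨[], by simp [sec], by simpa using h⟩
  | cons m ms ih =>
    intro s h hc
    classical
    obtain ⟨a, ha, rfl, h2⟩ := (Multiset.map_eq_cons f s (↑ms) m).2 h
    obtain ⟨T, h3, h4⟩ := ih h2 fun b hb => hc b (Multiset.mem_of_mem_erase hb)
    refine ⟨(f a, g a) :: T, ?_, by rw [← Multiset.cons_erase ha, Multiset.map_cons, h4]; rfl⟩
    simp only [sec, List.mem_sections, List.map_cons, List.forall₂_cons] at h3 ⊢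
    exact ⟨List.mem_map_of_mem (hc a ha), h3⟩

theorem sum_exT {α M : Type*} [AddCommMonoid M] {f g : α → ℤ} {s : Finset α} {T : List (ℤ × ℤ)}
    (h : s.val.map (fun a => (f a, g a)) = ↑T) (F : ℤ × ℤ → M) : ∑ a ∈ s, F (f a, g a) = (T.map F).sum := by
  rw [← Multiset.sum_coe, ← Multiset.map_coe, ← h, Multiset.map_map]; rfl

def rng (B : ℕ) : List ℤ := (List.range (2 * B + 1)).map fun i : ℕ => (i : ℤ) - B

theorem mem_rng {B : ℕ} {v : ℤ} (h : v ^ 2 < (B + 1) ^ 2) : v ∈ rng B := by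
  have := abs_lt.1 (abs_lt_of_sq_lt_sq h (by positivity))
  exact List.mem_map.2 ⟨(v + B).toNat, List.mem_range.2 (by omega), by omega⟩

def cand (c : ℕ) (m : ℤ) : List ℤ := (rng 93).filter fun v =>
  decide (m ∣ (95040 / c : ℕ) * v ∧ v ^ 2 ≤ c ∧ 2 ∣ v - m ∧ (m.natAbs = 16 ∨ m.natAbs = 32 → v = 0))

theorem zeq : ∀ u ∈ L11, ∀ c ∈ [64, 192, 576, 1728, 320, 960, 2880, 8640], ∀ T ∈ sec (cand c) u.2,
    1 + (T.map (·.2)).sum ∈ cand c u.1 →
    8640 + (T.map fun v => v.2 ^ 2 * (8640 / v.1)).sum = (1 + (T.map (·.2)).sum) ^ 2 * (8640 / u.1) →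
    1 + (T.map (·.2 ^ 2)).sum + 2 * (1 + (T.map (·.2)).sum) ^ 2 ≤ c →
    u.1 = -160 ∨ u.1 = 16 ∧ c = 192 ∧ T = [(45, -3), (-54, -6), (-120, 8), (144, 0)] := by
  decide +kernel

def opt5 : List ℤ := [-4, 6, -9, 11, 16, -24, 36, -44, -54, 66, 96, -99, -144, 176, 216, -264]

theorem mem_opt5 {m : ℤ} (h1 : m ∣ 9504) (h2 : 5 ∣ m - 1) (h3 : m.natAbs ≠ 1) (h4 : m.natAbs < 310) : m ∈ opt5 := by
  have : ∀ m ∈ rng 310, m ∣ 9504 → 5 ∣ m - 1 → m.natAbs ≠ 1 → m ∈ opt5 := by decide +kernel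
  exact this m (mem_rng (by have : -310 < m ∧ m < 310 := by omega
                            push_cast; nlinarith)) h1 h2 h3

def Q5 (u : List ℤ) : List (List ℤ) := if 16 ∈ u then [[-54, -144, 11, 11, 176], [-54, -144, -44, 66, 176], [-54, -144, 66, 66, 66]]
  else [[16, 16, -54, 11, 11], [16, 16, -54, -44, 66]]

theorem second {u : List ℤ} (hu : u ∈ L5) {M : Multiset ℤ} (h1 : ∀ m ∈ M, m ∈ opt5) (h2 : M.card = 5) (h3 : M.sum = 0)
    (h4 : (((u : Multiset ℤ) + M).map Int.natAbs).filter (¬ 11 ∣ ·) = ↑[16, 16, 54, 144]) : ∃ q ∈ Q5 u, M = ↑q := by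
  by_contra hc
  have := search_of (fun l => decide (l.sum = 0 ∧ (((u ++ l).map Int.natAbs).filter (¬ 11 ∣ ·)).Perm [16, 16, 54, 144] ∧
    ¬ ∃ q ∈ Q5 u, l.Perm q)) opt5 5 [] M h1 h2 fun l hl => by
      obtain rfl : M = l := by simpa using hl.symm
      simp only [Multiset.coe_add, Multiset.map_coe, Multiset.filter_coe, Multiset.coe_eq_coe, Multiset.sum_coe] at h3 h4 hc
      exact decide_eq_true ⟨h3, h4, hc⟩
  clear hc h4
  revert u
  decide +kernel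

def cand5 (m : ℤ) : List ℤ := if m.natAbs = 16 ∨ m.natAbs = 144 then [0] else if m.natAbs = 54 then [-6] else
  (rng 10).filter fun v => decide (m ∣ 495 * v ∧ 2 ∣ v - m)

def Good (T U : List (ℤ × ℤ)) (q : List ℤ) : Prop :=
  ∃ σ ∈ [(1 : ℤ), -1], (∀ v ∈ T, v = (66, 2) ∨ v.1 = -99 ∨ σ = 1 ∧ v.1 = 16 ∨ 144 ≤ v.1.natAbs) ∧
    (∀ v ∈ U, v.1 = 11 ∨ v.1 = -54 ∨ σ = -1 ∧ v.1 = 16 ∨ 144 ≤ v.1.natAbs) ∧ q.count 11 = 2

instance decGood (T U : List (ℤ × ℤ)) (q : List ℤ) : Decidable (Good T U q) := by unfold Good; infer_instance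

def Cnt (S0 S1 : ℤ) : Prop := ∃ a ∈ List.range 11, ∃ b ∈ List.range (a + 1),
  (a = 10 → b = 10) ∧ 5 * S0 = 9216 * ((a : ℤ) + b) ∧ 5 * S1 = 9216 * ((a : ℤ) - b)

instance decCnt (S0 S1 : ℤ) : Decidable (Cnt S0 S1) := by unfold Cnt; infer_instance

set_option synthInstance.maxSize 2000 in
theorem joint : ∀ u ∈ L5, ∀ T ∈ sec cand5 u, 1 + (T.map (·.2)).sum = 0 →
    9216 ∣ 5 * (9504 + (T.map fun v => v.2 ^ 2 * (9504 / v.1)).sum) → ∀ q ∈ Q5 u, ∀ U ∈ sec cand5 q,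
    (U.map (·.2)).sum = 0 → (U.map (·.2 ^ 2)).sum ≤ 118 →
    Cnt (9504 + (T.map fun v => v.2 ^ 2 * (9504 / v.1)).sum) (U.map fun v => v.2 ^ 2 * (9504 / v.1)).sum →
    Good T U q := by
  decide +kernel

end Cfsg.Agent.M12O
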